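import Groth.Agent.Lib.Hensel.FormalFibres
import Groth.Agent.Lib.NormalHom.Colimit
import Groth.Agent.Lib.Excellent.NorFiniteType
import Groth.Prelude.Def_EGA4b

/-!
# Geometrically normal fibres and ind-étale algebras
-/

set_option autoImplicit false
universe u

namespace GrothLib.NormalIndEt

section Aux

open IsLocalRing TensorProduct

attribute [local instance] Algebra.TensorProduct.rightAlgebra

/-- Geometrically normal fibres pass from the base to an ind-étale algebra. -/
theorem isGeomNormal_fiber {R S T : Type u} [CommRing R] [CommRing S] [CommRing T] [Algebra R S] [Algebra R T]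
    [Algebra S T] [IsScalarTower R S T] (hS : GrothLib.Hensel.EtaleStages R S)
    (h : ∀ (p : Ideal R) [p.IsPrime], EGA4.IsGeomNormal p.ResidueField (p.Fiber T))
    (P : Ideal S) [P.IsPrime] : EGA4.IsGeomNormal P.ResidueField (P.Fiber T) := by
  intro K _ _ hK
  let p := P.comap (algebraMap R S)
  let K₀ := P.ResidueField
  letI : Algebra R K := ((algebraMap K₀ K).comp (algebraMap R K₀)).toAlgebra
  letI : Algebra S K := ((algebraMap K₀ K).comp (algebraMap S K₀)).toAlgebra
  haveI : IsScalarTower S K₀ K := IsScalarTower.of_algebraMap_eq fun _ => rfl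
  haveI : IsScalarTower R S K := IsScalarTower.of_algebraMap_eq fun r => by
    show algebraMap K₀ K (algebraMap R K₀ r) = algebraMap K₀ K (algebraMap S K₀ (algebraMap R S r))
    rw [← IsScalarTower.algebraMap_apply R S K₀]
  let φ : p.ResidueField →ₐ[R] K₀ := Ideal.ResidueField.mapₐ p P (Algebra.ofId R S) rfl
  letI : Algebra p.ResidueField K := ((algebraMap K₀ K).comp φ.toRingHom).toAlgebra
  haveI : IsScalarTower R p.ResidueField K := IsScalarTower.of_algebraMap_eq fun r => by
    show algebraMap K₀ K (algebraMap R K₀ r) = algebraMap K₀ K (φ (algebraMap R p.ResidueField r))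
    rw [φ.commutes]
  have hn : EGA4.IsNormalRing (K ⊗[R] T) := GrothLib.Excellent.isNormalRing_congr
    (Algebra.TensorProduct.cancelBaseChange R p.ResidueField p.ResidueField K T).toRingEquiv
    (GrothLib.NormalHom.isNormalRing_tensor_field (h p) K)
  let ψ : S ⊗[R] K →ₐ[S] K :=
    Algebra.TensorProduct.lift (Algebra.ofId S K) (AlgHom.id R K) fun _ _ => Commute.all _ _
  letI : Algebra (S ⊗[R] K) K := ψ.toRingHom.toAlgebra
  haveI : IsScalarTower S (S ⊗[R] K) K := IsScalarTower.of_algebraMap_eq fun s => (ψ.commutes s).symm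
  have hL : GrothLib.Hensel.AbsFlat (S ⊗[R] K) := hS.absFlat_tensor (GrothLib.Hensel.absFlat_of_field K)
  haveI hker : (RingHom.ker ψ.toRingHom).IsPrime := RingHom.ker_isPrime _
  let M := (RingHom.ker ψ.toRingHom).primeCompl
  have hsurj : Function.Surjective ψ := fun x => ⟨1 ⊗ₜ x, by simp [ψ]⟩
  haveI : IsLocalization M K := by
    refine ⟨fun m => isUnit_iff_ne_zero.2 m.2, fun x => ?_, fun {a b} hab => ?_⟩
    · obtain ⟨z, rfl⟩ := hsurj x
      exact ⟨⟨z, 1⟩, by show ψ z * ψ 1 = ψ z; rw [map_one, mul_one]⟩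
    · obtain ⟨c', hc'⟩ := hL (a - b)
      have h0 : ψ (a - b) = 0 := by rw [map_sub]; exact sub_eq_zero.2 hab
      refine ⟨⟨1 - (a - b) * c', ?_⟩, ?_⟩
      · show ψ (1 - (a - b) * c') ≠ 0
        rw [map_sub, map_mul, h0, map_one, zero_mul, sub_zero]
        exact one_ne_zero
      · show (1 - (a - b) * c') * a = (1 - (a - b) * c') * b
        linear_combination -hc'
  let W := (S ⊗[R] K) ⊗[S] T
  let e0 : W ≃+* K ⊗[R] T :=
    (Algebra.TensorProduct.comm S (S ⊗[R] K) T).toRingEquiv.trans
      ((Algebra.TensorProduct.cancelBaseChange R S T T K).toRingEquiv.trans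
        (Algebra.TensorProduct.comm R T K).toRingEquiv)
  have hW : EGA4.IsNormalRing (W ⊗[S ⊗[R] K] K) :=
    GrothLib.Excellent.isNormalRing_isLocalization (Algebra.algebraMapSubmonoid W M)
      (GrothLib.Excellent.isNormalRing_congr e0.symm hn)
  refine GrothLib.Excellent.isNormalRing_congr ?_ hW
  exact (Algebra.TensorProduct.comm (S ⊗[R] K) W K).toRingEquiv.trans
    ((Algebra.TensorProduct.cancelBaseChange S (S ⊗[R] K) (S ⊗[R] K) K T).toRingEquiv.trans
      (Algebra.TensorProduct.cancelBaseChange S K₀ K₀ K T).symm.toRingEquiv)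

end Aux

end GrothLib.NormalIndEt
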